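import Mathlib.RingTheory.Flat.Stability
import Groth.Agent.Lib.SubtrDesc12.Ultra

/-!
# The torsion-free quotient of a base change

For a domain `A` inside a field `K`, a flat quotient of `A ⊗ B` by an ideal dying in `K ⊗ B` is the
quotient by the whole kernel of `A ⊗ B → K ⊗ B`.
-/

set_option autoImplicit false
set_option linter.style.haveILetI false

universe u

open scoped TensorProduct

namespace Groth.Agent.Flatten12

variable (R B : Type u) [CommRing R] [CommRing B] [Algebra R B]

section

variable (A K : Type u) [CommRing A] [Field K] [Algebra R A] [Algebra R K] [Algebra A K]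
  [IsScalarTower R A K]

/-- The restriction to the generic fibre. -/
noncomputable def genMap : A ⊗[R] B →ₐ[R] K ⊗[R] B :=
  Algebra.TensorProduct.map (IsScalarTower.toAlgHom R A K) (AlgHom.id R B)

theorem cancel_includeRight (x : A ⊗[R] B) :
    Algebra.TensorProduct.cancelBaseChange R A A K B ((1 : K) ⊗ₜ x) = genMap R B A K x := by
  induction x using TensorProduct.induction_on with
  | zero => simp
  | tmul a b =>
    rw [Algebra.TensorProduct.cancelBaseChange_tmul]
    simp [genMap, Algebra.smul_def]
  | add x y hx hy => simp only [TensorProduct.tmul_add, map_add, hx, hy]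

theorem ker_genMap_eq (hinj : Function.Injective (algebraMap A K)) (J : Ideal (A ⊗[R] B))
    (hJ : J ≤ RingHom.ker (genMap R B A K)) [Module.Flat A ((A ⊗[R] B) ⧸ J)] :
    RingHom.ker (genMap R B A K) = J := by
  refine le_antisymm (fun x hx => ?_) hJ
  rw [← Ideal.Quotient.eq_zero_iff_mem]
  have h0 : (1 : K) ⊗ₜ[A] x = 0 := by
    apply (Algebra.TensorProduct.cancelBaseChange R A A K B).injective
    rw [cancel_includeRight, map_zero]
    exact hx
  have h1 : (1 : K) ⊗ₜ[A] (Ideal.Quotient.mk J x) = 0 := by
    have := congrArg (LinearMap.lTensor K (Ideal.Quotient.mkₐ A J).toLinearMap) h0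
    simpa using this
  have hi : Function.Injective (LinearMap.rTensor ((A ⊗[R] B) ⧸ J) (Algebra.linearMap A K)) :=
    Module.Flat.rTensor_preserves_injective_linearMap _ hinj
  have h2 : (1 : A) ⊗ₜ[A] (Ideal.Quotient.mk J x) = 0 := hi (by
    rw [map_zero, LinearMap.rTensor_tmul, Algebra.linearMap_apply, map_one, h1])
  simpa using congrArg (TensorProduct.lid A ((A ⊗[R] B) ⧸ J)) h2

theorem flat_quot_ker_of_model (hinj : Function.Injective (algebraMap A K)) (C : Type u)
    [CommRing C] [Algebra R C] [Algebra C A] [IsScalarTower R C A] (J : Ideal (C ⊗[R] B))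
    [Module.Flat C ((C ⊗[R] B) ⧸ J)]
    (hJ : ∀ x ∈ J, genMap R B A K (SubtrDesc12.rho R B C A x) = 0) :
    Module.Flat A ((A ⊗[R] B) ⧸ RingHom.ker (genMap R B A K)) := by
  have hflat : Module.Flat A ((A ⊗[R] B) ⧸ J.map (SubtrDesc12.rho R B C A)) :=
    (SubtrDesc12.flat_psi_iff R B C A J).1 inferInstance
  rw [ker_genMap_eq R B A K hinj (J.map (SubtrDesc12.rho R B C A))
    (Ideal.map_le_iff_le_comap.2 hJ)]
  exact hflat

end

variable {R} {A K : Type u} [CommRing A] [Field K]

/-- Flatness of the torsion-free quotient of `A ⊗ B`, for explicitly given structure maps. -/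
def FlatQuot (σ : R →+* A) (η : A →+* K) : Prop :=
  letI := σ.toAlgebra
  letI := (η.comp σ).toAlgebra
  letI := η.toAlgebra
  haveI : IsScalarTower R A K := IsScalarTower.of_algebraMap_eq fun _ => rfl
  Module.Flat A ((A ⊗[R] B) ⧸ RingHom.ker (genMap R B A K))

theorem flatQuot_of_model (σ : R →+* A) (η : A →+* K) (hinj : Function.Injective η)
    [Algebra R K] (hK : algebraMap R K = η.comp σ) (C : Type u)
    [CommRing C] [Algebra R C] (θ : C →+* A) (hθ : θ.comp (algebraMap R C) = σ)
    (φ : C →ₐ[R] K) (hφ : φ.toRingHom = η.comp θ) (J : Ideal (C ⊗[R] B))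
    [Module.Flat C ((C ⊗[R] B) ⧸ J)]
    (hJ : ∀ x ∈ J, Algebra.TensorProduct.map φ (AlgHom.id R B) x = 0) :
    FlatQuot B σ η := by
  have hK' : ‹Algebra R K› = (η.comp σ).toAlgebra := Algebra.algebra_ext _ _ fun r => congr($hK r)
  subst hK'
  letI : Algebra R K := (η.comp σ).toAlgebra
  letI := σ.toAlgebra
  letI := η.toAlgebra
  letI := θ.toAlgebra
  haveI : IsScalarTower R A K := IsScalarTower.of_algebraMap_eq fun _ => rfl
  haveI : IsScalarTower R C A := IsScalarTower.of_algebraMap_eq fun r => congr($hθ r).symm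
  refine flat_quot_ker_of_model R B A K hinj C J fun x hx => ?_
  have h : (genMap R B A K).comp (SubtrDesc12.rho R B C A) =
      Algebra.TensorProduct.map φ (AlgHom.id R B) := by
    rw [genMap, SubtrDesc12.rho, ← Algebra.TensorProduct.map_comp]
    congr 1
    exact AlgHom.ext fun c => congr($hφ c).symm
  rw [← AlgHom.comp_apply, h]
  exact hJ x hx

/-- The condition persists along injective extensions inside the field. -/
theorem FlatQuot.map {A' : Type u} [CommRing A'] {σ : R →+* A} {η : A →+* K} (h : FlatQuot B σ η)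
    (m : A →+* A') (η' : A' →+* K) (hinj : Function.Injective η') (hη : η'.comp m = η) :
    FlatQuot B (m.comp σ) η' := by
  letI := σ.toAlgebra
  letI := (η.comp σ).toAlgebra
  letI := η.toAlgebra
  haveI : IsScalarTower R A K := IsScalarTower.of_algebraMap_eq fun _ => rfl
  haveI : Module.Flat A ((A ⊗[R] B) ⧸ RingHom.ker (genMap R B A K)) := h
  exact flatQuot_of_model B (m.comp σ) η' hinj
    (by rw [← RingHom.comp_assoc, hη]; rfl) A m rfl (IsScalarTower.toAlgHom R A K)
    hη.symm (RingHom.ker (genMap R B A K)) fun x hx => RingHom.mem_ker.1 hx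

end Groth.Agent.Flatten12
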