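import Groth.Agent.Lib.Flatten12.Model
import Groth.Agent.Lib.FlatH4.NoethApprox
import Groth.Agent.Lib.GrpQuot.SubDesc
import Mathlib.AlgebraicGeometry.Morphisms.ClosedImmersion

/-!
# Flatness of the closure of the generic fibre
-/

set_option autoImplicit false
set_option linter.style.haveILetI false
set_option backward.isDefEq.respectTransparency false

universe u

open IsLocalRing CategoryTheory CategoryTheory.Limits AlgebraicGeometry
open scoped TensorProduct

namespace Groth.Agent.Flatten12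

/-- If the algebra `T` modulo the kernel of `ψ` is flat, so is the scheme-theoretic image of
`Spec ψ` over the base. -/
theorem flat_subscheme_ker {A T T' : Type u} [CommRing A] [CommRing T] [CommRing T'] [Algebra A T]
    (ψ : T →+* T') [Module.Flat A (T ⧸ RingHom.ker ψ)] :
    Flat ((Spec.map (CommRingCat.ofHom ψ)).ker.subschemeι ≫
      Spec.map (CommRingCat.ofHom (algebraMap A T))) := by
  let mk := Spec.map (CommRingCat.ofHom (Ideal.Quotient.mk (RingHom.ker ψ)))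
  haveI : IsClosedImmersion mk := IsClosedImmersion.spec_of_surjective _ Ideal.Quotient.mk_surjective
  have hk : mk.ker = (Spec.map (CommRingCat.ofHom ψ)).ker := by
    rw [Scheme.ker_of_isAffine, Scheme.ker_of_isAffine]
    congr 1
    ext z
    have h1 := congr($(Scheme.ΓSpecIso_naturality (CommRingCat.ofHom ψ)).hom z)
    have h2 := congr($(Scheme.ΓSpecIso_naturality (CommRingCat.ofHom (Ideal.Quotient.mk (RingHom.ker ψ)))).hom z)
    simp only [CommRingCat.hom_comp, RingHom.comp_apply, CommRingCat.hom_ofHom] at h1 h2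
    rw [RingHom.mem_ker, RingHom.mem_ker,
      ← map_eq_zero_iff (Scheme.ΓSpecIso (CommRingCat.of T')).hom.hom
        (Scheme.ΓSpecIso (CommRingCat.of T')).commRingCatIsoToRingEquiv.injective,
      ← map_eq_zero_iff (Scheme.ΓSpecIso (CommRingCat.of (T ⧸ RingHom.ker ψ))).hom.hom
        (Scheme.ΓSpecIso (CommRingCat.of (T ⧸ RingHom.ker ψ))).commRingCatIsoToRingEquiv.injective,
      h1, h2, Ideal.Quotient.eq_zero_iff_mem, RingHom.mem_ker]
  rw [← hk]
  have h : mk.toImage ≫ mk.imageι = mk := mk.toImage_imageι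
  have hflat : Flat (mk ≫ Spec.map (CommRingCat.ofHom (algebraMap A T))) := by
    rw [← Spec.map_comp, Flat.SpecMap_iff]
    exact RingHom.flat_algebraMap_iff.2 ‹_›
  rw [show mk.ker.subschemeι = inv mk.toImage ≫ mk from (IsIso.eq_inv_comp _).2 h, Category.assoc]
  infer_instance

variable {X Y Y' G : Scheme.{u}} (f : X ⟶ Y) (q : Y' ⟶ Y) (pt : G ⟶ Y') [QuasiCompact pt]

/-- The closure of the part over the given points is flat near a chart with flat torsion-free
quotient. -/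
theorem exists_openImmersion_flat {Yj : Y.Opens} (hYj : IsAffineOpen Yj) {W : X.Opens}
    (hW : IsAffineOpen W) (hWj : W ≤ f ⁻¹ᵁ Yj) {U : Y'.Opens} (hU : IsAffineOpen U)
    (hUj : U ≤ q ⁻¹ᵁ Yj) {K : Type u} [Field K] (η : Γ(Y', U) ⟶ CommRingCat.of K)
    {κ : Spec (CommRingCat.of K) ⟶ G}
    (hpb : IsPullback κ (Spec.map η) pt hU.fromSpec)
    (hflat : letI := (f.appLE Yj W hWj).hom.toAlgebra
      FlatQuot Γ(X, W) (q.appLE Yj U hUj).hom η.hom)
    (x : (pullback.fst (pullback.snd f q) pt).image)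
    (hx1 : pullback.fst f q ((pullback.fst (pullback.snd f q) pt).imageι x) ∈ W)
    (hx2 : pullback.snd f q ((pullback.fst (pullback.snd f q) pt).imageι x) ∈ U) :
    ∃ (Z : Scheme.{u}) (j : Z ⟶ (pullback.fst (pullback.snd f q) pt).image), IsOpenImmersion j ∧
      x ∈ Set.range j ∧
      Flat (j ≫ (pullback.fst (pullback.snd f q) pt).imageι ≫ pullback.snd f q) := by
  let g := pullback.fst (pullback.snd f q) pt
  let σA := q.appLE Yj U hUj
  let σB := f.appLE Yj W hWj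
  letI := σB.hom.toAlgebra
  letI := σA.hom.toAlgebra
  letI : Algebra Γ(Y, Yj) K := (η.hom.comp σA.hom).toAlgebra
  letI := η.hom.toAlgebra
  haveI : IsScalarTower Γ(Y, Yj) Γ(Y', U) K := IsScalarTower.of_algebraMap_eq fun _ => rfl
  haveI : Module.Flat Γ(Y', U)
      ((Γ(Y', U) ⊗[Γ(Y, Yj)] Γ(X, W)) ⧸ RingHom.ker (genMap Γ(Y, Yj) Γ(X, W) Γ(Y', U) K)) := hflat
  have S0 : IsPullback _ (Spec.map (CommRingCat.ofHom
      (algebraMap Γ(Y', U) (Γ(Y', U) ⊗[Γ(Y, Yj)] Γ(X, W))))) (Spec.map σB) (Spec.map σA) :=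
    FlatH4.isPullback_SpecMap_of_algEquiv (R := Γ(Y, Yj)) (A := Γ(Y', U)) (B₀ := Γ(X, W))
    (B := Γ(Y', U) ⊗[Γ(Y, Yj)] Γ(X, W)) AlgEquiv.refl
  have eB : Spec.map σB ≫ hYj.fromSpec = hW.fromSpec ≫ f :=
    IsAffineOpen.SpecMap_appLE_fromSpec f hYj hW hWj
  have eA : Spec.map σA ≫ hYj.fromSpec = hU.fromSpec ≫ q :=
    IsAffineOpen.SpecMap_appLE_fromSpec q hYj hU hUj
  let m := pullback.map (Spec.map σB) (Spec.map σA) f q hW.fromSpec hU.fromSpec hYj.fromSpec eB eA
  let e : Spec (CommRingCat.of (Γ(Y', U) ⊗[Γ(Y, Yj)] Γ(X, W))) ⟶ pullback f q :=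
    S0.isoPullback.hom ≫ m
  haveI : IsOpenImmersion m := Scheme.pullback_map_isOpenImmersion _ _ _ _ _ _ _ _ _
  haveI : IsOpenImmersion e := inferInstanceAs (IsOpenImmersion (_ ≫ _))
  have he_snd : e ≫ pullback.snd f q =
      Spec.map (CommRingCat.ofHom (algebraMap Γ(Y', U) (Γ(Y', U) ⊗[Γ(Y, Yj)] Γ(X, W)))) ≫
        hU.fromSpec := by
    simp only [e, m, Category.assoc, pullback.lift_snd]
    rw [← Category.assoc, S0.isoPullback_hom_snd]
  have hxe : g.imageι x ∈ Set.range e := by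
    have h : g.imageι x ∈ Set.range m := by
      rw [Scheme.Pullback.range_map, hW.range_fromSpec, hU.range_fromSpec]
      exact ⟨hx1, hx2⟩
    obtain ⟨w, hw⟩ := h
    refine ⟨S0.isoPullback.inv w, ?_⟩
    rw [← hw, ← Scheme.Hom.comp_apply]
    simp only [e, Iso.inv_hom_id_assoc]
  have S1 := FlatH4.isPullback_SpecMap_of_algEquiv (R := Γ(Y', U)) (A := K)
    (B₀ := Γ(Y', U) ⊗[Γ(Y, Yj)] Γ(X, W)) (B := K ⊗[Γ(Y, Yj)] Γ(X, W))
    (Algebra.TensorProduct.cancelBaseChange Γ(Y, Yj) Γ(Y', U) K K Γ(X, W))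
  let ψ := (genMap Γ(Y, Yj) Γ(X, W) Γ(Y', U) K).toRingHom
  let a : Spec (CommRingCat.of (K ⊗[Γ(Y, Yj)] Γ(X, W))) ⟶
      Spec (CommRingCat.of (Γ(Y', U) ⊗[Γ(Y, Yj)] Γ(X, W))) := Spec.map (CommRingCat.ofHom ψ)
  let b : Spec (CommRingCat.of (K ⊗[Γ(Y, Yj)] Γ(X, W))) ⟶ Spec (CommRingCat.of K) :=
    Spec.map (CommRingCat.ofHom (algebraMap K (K ⊗[Γ(Y, Yj)] Γ(X, W))))
  have S1' : IsPullback a b
      (Spec.map (CommRingCat.ofHom (algebraMap Γ(Y', U) (Γ(Y', U) ⊗[Γ(Y, Yj)] Γ(X, W)))))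
      (Spec.map η) := by
    convert! S1 using 2
    congr 1
    exact RingHom.ext fun t => (cancel_includeRight Γ(Y, Yj) Γ(X, W) Γ(Y', U) K t).symm
  have S2 : IsPullback a (b ≫ κ) (e ≫ pullback.snd f q) pt := by
    rw [he_snd]
    exact (S1'.flip.paste_horiz hpb.flip.flip).flip
  have hS3 : IsPullback a
      (pullback.lift (a ≫ e) (b ≫ κ) (by rw [Category.assoc]; exact S2.w)) e g := by
    refine IsPullback.of_bot ?_ (pullback.lift_fst _ _ _).symm
      (IsPullback.of_hasPullback (pullback.snd f q) pt)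
    rw [pullback.lift_snd]
    exact S2
  have hker : g.ker.comap e = a.ker := by
    rw [← GrpQuot.SubDesc.ker_pullback_fst_eq_comap e g, ← hS3.isoPullback_inv_fst,
      Scheme.Hom.ker_comp_of_isIso]
  haveI hf0 : Flat ((g.ker.comap e).subschemeι ≫
      Spec.map (CommRingCat.ofHom (algebraMap Γ(Y', U) (Γ(Y', U) ⊗[Γ(Y, Yj)] Γ(X, W))))) := by
    rw [hker]
    haveI : Module.Flat Γ(Y', U) ((Γ(Y', U) ⊗[Γ(Y, Yj)] Γ(X, W)) ⧸ RingHom.ker ψ) :=
      (inferInstance : Module.Flat Γ(Y', U) ((Γ(Y', U) ⊗[Γ(Y, Yj)] Γ(X, W)) ⧸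
        RingHom.ker (genMap Γ(Y, Yj) Γ(X, W) Γ(Y', U) K)))
    exact flat_subscheme_ker ψ
  refine ⟨pullback e g.imageι, pullback.snd e g.imageι, inferInstance, ?_, ?_⟩
  · obtain ⟨w, hw⟩ := hxe
    obtain ⟨v, -, hv⟩ := Scheme.Pullback.exists_preimage_pullback (f := e) (g := g.imageι) w x hw
    exact ⟨v, hv⟩
  · rw [← pullback.condition_assoc, he_snd,
      show pullback.fst e g.imageι = (g.ker.comapIso e).inv ≫ (g.ker.comap e).subschemeι from
        (Scheme.IdealSheafData.comapIso_inv_subschemeι g.ker e).symm]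
    simp only [Category.assoc]
    rw [← Category.assoc (g.ker.comap e).subschemeι]
    infer_instance

end Groth.Agent.Flatten12
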