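import Groth.Agent.Lib.Flatten12.Image
import Groth.Agent.Lib.RefineDesc12.Main
import Groth.Agent.Lib.Descend.FgModel

/-!
# Universally open morphisms become flat after a proper surjective base change, up to a nil-immersion
-/

set_option autoImplicit false
set_option linter.style.haveILetI false
set_option backward.isDefEq.respectTransparency false

universe u

open IsLocalRing CategoryTheory CategoryTheory.Limits AlgebraicGeometry

namespace Groth.Agent.Flatten12

open RefineDesc12

variable {X Y : Scheme.{u}} (f : X ⟶ Y)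

theorem genS_of_universallyOpen [UniversallyOpen f] [Surjective f] {V : Type u} [CommRing V]
    [IsDomain V] [ValuationRing V] {Z : Scheme.{u}} {a : Z ⟶ X} {b : Z ⟶ Spec (CommRingCat.of V)}
    {x : Spec (CommRingCat.of V) ⟶ Y} (h : IsPullback a b f x) : SubtrDesc12.GenS b := by
  haveI : Surjective b := MorphismProperty.of_isPullback (P := @Surjective) h inferInstance
  obtain ⟨z, hz⟩ := b.surjective (closedPoint V)
  obtain ⟨z', hz', hg⟩ := SubtrDesc12.genO_of_universallyOpen h z
  exact ⟨z, z', hz', hz, hg⟩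

theorem univSSubtrusive_of_universallyOpen [UniversallyOpen f] [Surjective f] :
    Subtr.UnivSSubtrusive f :=
  SubtrDesc12.univSSubtrusive_of_genS fun _ _ _ _ x =>
    genS_of_universallyOpen f (IsPullback.of_hasPullback f x)

theorem surjective_of_univSSubtrusive (hf : Subtr.UnivSSubtrusive f) : Surjective f := by
  refine ⟨fun y => ?_⟩
  obtain ⟨x, -, -, hx, -⟩ := hf (𝟙 X) (𝟙 Y) f (IsPullback.of_vert_isIso ⟨by simp⟩) (specializes_refl y)
  exact ⟨x, hx⟩

/-- The statement over a Noetherian base. -/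
theorem exists_flat_nilImmersion_noetherian [AlgebraicGeometry.IsNoetherian Y]
    [LocallyOfFinitePresentation f] [QuasiCompact f] [QuasiSeparated f]
    [UniversallyOpen f] [Surjective f] :
    ∃ (Y' : Scheme.{u}) (q : Y' ⟶ Y) (X' : Scheme.{u}) (r : X' ⟶ pullback f q),
      IsProper q ∧ Surjective q ∧ LocallyOfFinitePresentation q ∧
      IsClosedImmersion r ∧ Surjective r ∧
      Flat (r ≫ pullback.snd f q) ∧ Surjective (r ≫ pullback.snd f q) ∧
      LocallyOfFinitePresentation (r ≫ pullback.snd f q) ∧ QuasiCompact (r ≫ pullback.snd f q) ∧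
      QuasiSeparated (r ≫ pullback.snd f q) := by
  classical
  let σ : Type u := irreducibleComponents Y
  haveI : Finite σ := (TopologicalSpace.NoetherianSpace.finite_irreducibleComponents (α := Y)).to_subtype
  let η : σ → Y := fun Z => Z.2.1.genericPoint
  let K : σ → Type u := fun Z => AlgebraicClosure (Y.residueField (η Z))
  let γ : ∀ Z, Spec (CommRingCat.of (K Z)) ⟶ Y := fun Z =>
    Spec.map (CommRingCat.ofHom (algebraMap (Y.residueField (η Z)) (K Z))) ≫
      Y.fromSpecResidueField (η Z)
  haveI : CompactSpace X := QuasiCompact.compactSpace_of_compactSpace f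
  have hch : ∀ x : X, ∃ (Yj : Y.Opens) (W : X.Opens),
      IsAffineOpen Yj ∧ IsAffineOpen W ∧ x ∈ W ∧ W ≤ f ⁻¹ᵁ Yj := fun x => by
    obtain ⟨Yj, hYj, hy, -⟩ := exists_isAffineOpen_mem_and_subset (X := Y) (x := f x) (U := ⊤) trivial
    obtain ⟨W, hW, hx, hle⟩ := exists_isAffineOpen_mem_and_subset (X := X) (x := x) (U := f ⁻¹ᵁ Yj) hy
    exact ⟨Yj, W, hYj, hW, hx, hle⟩
  choose Yj W hYj hW hxW hWj using hch
  obtain ⟨t, ht⟩ := isCompact_univ.elim_finite_subcover (fun x => (W x : Set X))
    (fun x => (W x).isOpen) (fun x _ => Set.mem_iUnion.2 ⟨x, hxW x⟩)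
  let τ : Type u := t
  choose M hM using fun Z => exists_model_flat (γ := γ Z) f (fun k : τ => Yj k.1) (fun k : τ => W k.1)
    (fun k => hWj k.1) (fun k => hYj k.1) (fun k => hW k.1)
  haveI : ∀ Z, IsProper (M Z).q := fun Z => (M Z).isProper
  let P : σ → Scheme.{u} := fun Z => (M Z).P
  let q : ∐ P ⟶ Y := Sigma.desc fun Z => (M Z).q
  haveI : IsProper q := isProper_sigmaDesc _
  haveI : IsLocallyNoetherian (∐ P) := LocallyOfFiniteType.isLocallyNoetherian q
  haveI hq : Surjective q := ⟨fun y => by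
    obtain ⟨Z, hyZ⟩ : ∃ Z : σ, y ∈ (Z : Set Y) :=
      ⟨⟨_, irreducibleComponent_mem_irreducibleComponents y⟩, mem_irreducibleComponent⟩
    have hη : η Z ∈ Set.range (M Z).q := by
      refine ⟨(M Z).pt (closedPoint (K Z)), ?_⟩
      rw [← Scheme.Hom.comp_apply, (M Z).fac, Scheme.Hom.comp_apply]
      exact Scheme.fromSpecResidueField_apply _ _
    have hsp : η Z ⤳ y := by
      refine IsGenericPoint.specializes ?_ hyZ
      have := Z.2.1.isGenericPoint_genericPoint_closure
      rwa [(isClosed_of_mem_irreducibleComponents _ Z.2).closure_eq] at this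
    obtain ⟨x, hx⟩ := hsp.mem_closed (M Z).q.isClosedMap.isClosed_range hη
    exact ⟨Sigma.ι P Z x, by rw [← Scheme.Hom.comp_apply, Sigma.ι_desc, hx]⟩⟩
  let G : σ → Scheme.{u} := fun Z => Spec (CommRingCat.of (K Z))
  let pt : ∐ G ⟶ ∐ P := Limits.Sigma.map fun Z => (M Z).pt
  haveI : CompactSpace ↥(∐ G) := by
    refine ⟨?_⟩
    have hu : (Set.univ : Set ↥(∐ G)) = ⋃ k, Set.range (Sigma.ι G k) := by
      refine (Set.eq_univ_of_forall fun x => ?_).symm
      obtain ⟨k, y, hy⟩ := CurveNF.exists_sigma_eq (X := G) x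
      exact Set.mem_iUnion.2 ⟨k, y, hy⟩
    rw [hu]
    exact isCompact_iUnion fun k => isCompact_range (Sigma.ι G k).continuous
  haveI : QuasiCompact (pt ≫ terminal.from _) := (quasiCompact_iff_compactSpace _).2 inferInstance
  haveI : QuasiCompact pt := QuasiCompact.of_comp pt (terminal.from _)
  let g := pullback.fst (pullback.snd f q) pt
  have hflat : Flat (g.imageι ≫ pullback.snd f q) := by
    have hloc : ∀ x : g.image, ∃ (Z' : Scheme.{u}) (j : Z' ⟶ g.image), IsOpenImmersion j ∧
        x ∈ Set.range j ∧ Flat (j ≫ g.imageι ≫ pullback.snd f q) := by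
      intro x
      obtain ⟨Z, y, hy⟩ := CurveNF.exists_sigma_eq (X := P) (pullback.snd f q (g.imageι x))
      obtain ⟨k, hk, hxk⟩ := Set.mem_iUnion₂.1 (ht (Set.mem_univ (pullback.fst f q (g.imageι x))))
      have hqy : (M Z).q y = f (pullback.fst f q (g.imageι x)) := by
        rw [← Sigma.ι_desc (fun Z => (M Z).q) Z, Scheme.Hom.comp_apply, hy, ← Scheme.Hom.comp_apply,
          ← pullback.condition, Scheme.Hom.comp_apply]
      have hqk : (M Z).q y ∈ Yj k := hqy ▸ hWj k hxk
      obtain ⟨U, hU, hyU, hUj, hfl⟩ := hM Z ⟨k, hk⟩ y hqk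
      letI := (f.appLE (Yj k) (W k) (hWj k)).hom.toAlgebra
      let ι := Sigma.ι P Z
      let U' : (∐ P : Scheme.{u}).Opens := ι ''ᵁ U
      have hU' : IsAffineOpen U' := hU.image_of_isOpenImmersion ι
      have hUj' : U' ≤ q ⁻¹ᵁ Yj k := by
        rintro _ ⟨z, hz, rfl⟩
        show q (ι z) ∈ Yj k
        rw [← Scheme.Hom.comp_apply, Sigma.ι_desc]
        exact hUj hz
      let η' : Γ(∐ P, U') ⟶ CommRingCat.of (K Z) := (ι.appIso U).hom ≫ evalPt (M Z) hyU
      have hq' : q.appLE (Yj k) U' hUj' = (M Z).q.appLE (Yj k) U hUj ≫ (ι.appIso U).inv := by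
        rw [Iso.eq_comp_inv, Scheme.Hom.appIso_hom', Scheme.Hom.appLE_comp_appLE]
        simp only [q, ι, Sigma.ι_desc]
      have hfl' : FlatQuot Γ(X, W k) (q.appLE (Yj k) U' hUj').hom η'.hom := by
        rw [hq']
        refine hfl.map Γ(X, W k) (ι.appIso U).inv.hom η'.hom
          ((evalPt_injective (M Z) hyU).comp (ι.appIso U).commRingCatIsoToRingEquiv.injective) ?_
        show ((ι.appIso U).inv ≫ η').hom = _
        simp only [η', Iso.inv_hom_id_assoc]
      have hH : Sigma.ι G Z ≫ pt = Spec.map η' ≫ hU'.fromSpec := by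
        have hle : U ≤ ι ⁻¹ᵁ U' := (ι.preimage_image_eq U).ge
        have hpt : Spec.map (evalPt (M Z) hyU) ≫ hU.fromSpec = (M Z).pt := by
          rw [evalPt, Spec.map_comp, Category.assoc,
            IsAffineOpen.SpecMap_appLE_fromSpec (M Z).pt hU (isAffineOpen_top _), IsAffineOpen.fromSpec_top]
          simp [Scheme.isoSpec_Spec_inv]
        rw [Spec.map_comp, Category.assoc, Scheme.Hom.appIso_hom',
          IsAffineOpen.SpecMap_appLE_fromSpec ι hU' hU hle, ← Category.assoc, hpt]
        simp [pt, G, ι, Limits.Sigma.map]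
      have hpre : pt ⁻¹ᵁ hU'.fromSpec.opensRange = (Sigma.ι G Z).opensRange := by
        ext p
        show pt p ∈ Set.range hU'.fromSpec ↔ p ∈ Set.range (Sigma.ι G Z)
        rw [hU'.range_fromSpec]
        obtain ⟨Z₂, p₂, rfl⟩ := CurveNF.exists_sigma_eq (X := G) p
        have hpp : pt (Sigma.ι G Z₂ p₂) = Sigma.ι P Z₂ ((M Z₂).pt p₂) := by
          rw [← Scheme.Hom.comp_apply, ← Scheme.Hom.comp_apply]
          simp [pt, G, P, Limits.Sigma.map]
        rw [hpp]
        constructor
        · rintro ⟨z, -, hz⟩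
          obtain rfl := CurveNF.eq_of_sigma_eq (X := P) hz
          exact ⟨p₂, rfl⟩
        · rintro ⟨p₃, hp₃⟩
          obtain rfl := CurveNF.eq_of_sigma_eq (X := G) hp₃
          exact ⟨_, range_subset_of_closedPoint_mem (M Z).pt (pt_mem_of_nonempty (M Z) hyU) ⟨p₂, rfl⟩,
            rfl⟩
      exact exists_openImmersion_flat f q pt (hYj k) (hW k) (hWj k) hU' hUj' η'
        (IsOpenImmersion.isPullback (Spec.map η') (Sigma.ι G Z) hU'.fromSpec pt hH hpre).flip hfl' x
        hxk ⟨y, hyU, hy⟩
    choose Z' j hj hxj hjf using hloc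
    refine IsZariskiLocalAtSource.of_openCover
      (g.image.openCoverOfIsOpenCover (fun x => haveI := hj x; (j x).opensRange) ?_) fun x => ?_
    · rw [TopologicalSpace.IsOpenCover, eq_top_iff]
      exact fun x _ => TopologicalSpace.Opens.mem_iSup.2 ⟨x, hxj x⟩
    · haveI := hj x
      haveI := hjf x
      show Flat ((j x).opensRange.ι ≫ g.imageι ≫ pullback.snd f q)
      rw [← Scheme.Hom.isoOpensRange_inv_comp (j x), Category.assoc]
      infer_instance
  haveI hr : Surjective g.imageι := ⟨fun x => by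
    obtain ⟨Z, y, hy⟩ := CurveNF.exists_sigma_eq (X := P) (pullback.snd f q x)
    obtain ⟨V, xV, hxV, hxVc⟩ := exists_centred (M Z) y
    let x' : Spec (CommRingCat.of V) ⟶ ∐ P := xV ≫ Sigma.ι P Z
    obtain ⟨w, hw1, hw2⟩ := Scheme.Pullback.exists_preimage_pullback (f := pullback.snd f q) (g := x')
      x (closedPoint V) (by rw [Scheme.Hom.comp_apply, hxVc, hy])
    haveI : UniversallyOpen (pullback.snd f q) := MorphismProperty.pullback_snd _ _ inferInstance
    obtain ⟨w', hww, hwg⟩ := SubtrDesc12.genO_of_universallyOpen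
      (IsPullback.of_hasPullback (pullback.snd f q) x') w
    have hgen : Spec.map (CommRingCat.ofHom (algebraMap V (K Z))) (closedPoint (K Z)) =
        SubtrDesc12.gen V :=
      ValSq12.spec_generic_of_field (algebraMap V (K Z)) (IsFractionRing.injective V (K Z)) _
    have h1 : pullback.snd f q (pullback.fst (pullback.snd f q) x' w') =
        pt (Sigma.ι G Z (closedPoint (K Z))) := by
      rw [← Scheme.Hom.comp_apply, pullback.condition, Scheme.Hom.comp_apply, hwg, ← hgen,
        ← Scheme.Hom.comp_apply, ← Scheme.Hom.comp_apply]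
      have : Spec.map (CommRingCat.ofHom (algebraMap V (K Z))) ≫ x' = Sigma.ι G Z ≫ pt := by
        simp only [x', ← Category.assoc, hxV]
        simp [pt, G, P, Limits.Sigma.map]
      rw [this]
    obtain ⟨v, hv, -⟩ := Scheme.Pullback.exists_preimage_pullback (f := pullback.snd f q) (g := pt)
      _ _ h1
    have hmem : pullback.fst (pullback.snd f q) x' w' ∈ Set.range g.imageι :=
      ⟨g.toImage v, by rw [← Scheme.Hom.comp_apply, Scheme.Hom.toImage_imageι]; exact hv⟩
    have hs : pullback.fst (pullback.snd f q) x' w' ⤳ x := by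
      rw [← hw1]
      exact hww.map (pullback.fst (pullback.snd f q) x').continuous
    exact hs.mem_closed g.imageι.isClosedMap.isClosed_range hmem⟩
  exact ⟨∐ P, q, g.image, g.imageι, inferInstance, hq, inferInstance, inferInstance, hr, hflat,
    inferInstance, inferInstance, inferInstance, inferInstance⟩

/-- Universally open surjective morphisms become flat after a proper surjective base change and a
nil-immersion. -/
theorem exists_flat_nilImmersion (hY : IsAffine Y ∨ AlgebraicGeometry.IsNoetherian Y)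
    [LocallyOfFinitePresentation f] [QuasiCompact f] [QuasiSeparated f]
    [UniversallyOpen f] [Surjective f] :
    ∃ (Y' : Scheme.{u}) (q : Y' ⟶ Y) (X' : Scheme.{u}) (r : X' ⟶ pullback f q),
      IsProper q ∧ Surjective q ∧ LocallyOfFinitePresentation q ∧
      IsClosedImmersion r ∧ Surjective r ∧
      Flat (r ≫ pullback.snd f q) ∧ Surjective (r ≫ pullback.snd f q) ∧
      LocallyOfFinitePresentation (r ≫ pullback.snd f q) ∧ QuasiCompact (r ≫ pullback.snd f q) ∧
      QuasiSeparated (r ≫ pullback.snd f q) := by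
  rcases hY with hY | hY
  swap
  · exact exists_flat_nilImmersion_noetherian f
  let f' : X ⟶ Spec (CommRingCat.of Γ(Y, ⊤)) := f ≫ Y.isoSpec.hom
  haveI : UniversallyOpen f' := MorphismProperty.comp_mem _ _ _ ‹UniversallyOpen f› inferInstance
  have hf' : (Subtr.UnivSSubtrusive ⊓ @UniversallyOpen) f' :=
    ⟨univSSubtrusive_of_universallyOpen f', inferInstance⟩
  obtain ⟨A₀, hA₀, X₀, f₀, qX, ⟨hS, hUO⟩, hfp, hqc, hpb⟩ :=
    Descend.exists_fg_model (Subtr.UnivSSubtrusive ⊓ @UniversallyOpen)
      (Subtr.UnivSSubtrusive ⊓ @UniversallyOpen) f' hf'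
      (fun {I} _ _ {S X' D t f₁ c q P p g} _ hc _ _ _ _ hq hP hg => by
        haveI : QuasiCompact (f₁ ≫ terminal.from S) := (quasiCompact_iff_compactSpace _).2 inferInstance
        haveI : QuasiCompact f₁ := QuasiCompact.of_comp f₁ (terminal.from S)
        haveI : UniversallyOpen g := hg.2
        obtain ⟨j₁, h₁⟩ := SubtrDesc12.exists_stage_of_ultra D t c hc q hq
          (fun W _ _ _ x => SubtrDesc12.GenS (pullback.snd f₁ x))
          (fun ι U V _ _ _ A y σ h => SubtrDesc12.eventually_genS f₁ U V y σ h)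
          (fun W _ _ _ x => (SubtrDesc12.genS_pullback_iff (IsPullback.of_hasPullback f₁ (x ≫ q))
            ((IsPullback.of_hasPullback g x).paste_horiz hP)).2
            (SubtrDesc12.genS_of_univSSubtrusive hg.1 (IsPullback.of_hasPullback g x)))
        obtain ⟨j₂, h₂⟩ := SubtrDesc12.exists_stage_of_ultra D t c hc q hq
          (fun W _ _ _ x => SubtrDesc12.GenO (pullback.snd f₁ x))
          (fun ι U V _ _ _ A y σ h => SubtrDesc12.eventually_genO f₁ U V y σ h)
          (fun W _ _ _ x => (SubtrDesc12.genO_pullback_iff (IsPullback.of_hasPullback f₁ (x ≫ q))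
            ((IsPullback.of_hasPullback g x).paste_horiz hP)).2
            (SubtrDesc12.genO_of_universallyOpen (IsPullback.of_hasPullback g x)))
        have hs₁ : Subtr.UnivSSubtrusive (pullback.snd f₁ (t.app j₁)) :=
          SubtrDesc12.univSSubtrusive_of_genS fun W _ _ _ x =>
            (SubtrDesc12.genS_pullback_iff ((IsPullback.of_hasPullback _ x).paste_horiz
              (IsPullback.of_hasPullback f₁ (t.app j₁))) (IsPullback.of_hasPullback f₁ (x ≫ t.app j₁))).2
              (h₁ W x)
        have hs₂ : UniversallyOpen (pullback.snd f₁ (t.app j₂)) :=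
          SubtrDesc12.universallyOpen_of_genO fun W _ _ _ x =>
            (SubtrDesc12.genO_pullback_iff ((IsPullback.of_hasPullback _ x).paste_horiz
              (IsPullback.of_hasPullback f₁ (t.app j₂))) (IsPullback.of_hasPullback f₁ (x ≫ t.app j₂))).2
              (h₂ W x)
        refine ⟨IsCofiltered.min j₁ j₂, ?_, ?_⟩
        · exact MorphismProperty.IsStableUnderBaseChange.of_isPullback
            (self := by unfold Subtr.UnivSSubtrusive; infer_instance)
            (Descend.pbMap_isPullback D t f₁ (IsCofiltered.minToLeft j₁ j₂)) hs₁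
        · exact MorphismProperty.of_isPullback (P := @UniversallyOpen)
            (Descend.pbMap_isPullback D t f₁ (IsCofiltered.minToRight j₁ j₂)) hs₂)
  haveI : Algebra.FiniteType ℤ A₀ := (Subalgebra.fg_iff_finiteType A₀).1 hA₀
  haveI : IsNoetherianRing A₀ := Algebra.FiniteType.isNoetherianRing ℤ A₀
  haveI : IsLocallyNoetherian X₀ := LocallyOfFiniteType.isLocallyNoetherian f₀
  haveI : UniversallyOpen f₀ := hUO
  haveI : Surjective f₀ := surjective_of_univSSubtrusive f₀ hS
  obtain ⟨Y₁, q₁, X₁, r₁, hq₁, hq₁s, hq₁fp, hr₁, hr₁s, hfl, hsu, hlfp, hqc₁, hqs₁⟩ :=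
    exists_flat_nilImmersion_noetherian f₀
  let m : Y ⟶ Spec (CommRingCat.of A₀) :=
    Y.isoSpec.hom ≫ Spec.map (CommRingCat.ofHom (algebraMap A₀ Γ(Y, ⊤)))
  have hpb' : IsPullback qX f f₀ m := by
    have h1 : IsPullback (𝟙 X) f f' Y.isoSpec.hom := IsPullback.of_horiz_isIso ⟨by simp [f']⟩
    have h2 := h1.paste_horiz hpb
    rwa [Category.id_comp] at h2
  let q := pullback.snd q₁ m
  have hbig : IsPullback (pullback.fst f q ≫ qX) (pullback.snd f q) f₀ (q ≫ m) :=
    (IsPullback.of_hasPullback f q).paste_horiz hpb'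
  let mX : pullback f q ⟶ pullback f₀ q₁ :=
    pullback.lift (pullback.fst f q ≫ qX) (pullback.snd f q ≫ pullback.fst q₁ m)
      (by rw [hbig.w, Category.assoc]; congr 1; exact pullback.condition.symm)
  have hmX : IsPullback mX (pullback.snd f q) (pullback.snd f₀ q₁) (pullback.fst q₁ m) := by
    refine IsPullback.of_right ?_ (pullback.lift_snd _ _ _) (IsPullback.of_hasPullback f₀ q₁)
    rw [pullback.lift_fst, pullback.condition]
    exact hbig
  let r := pullback.snd r₁ mX
  have hr : IsPullback (pullback.fst r₁ mX) (r ≫ pullback.snd f q) (r₁ ≫ pullback.snd f₀ q₁)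
      (pullback.fst q₁ m) :=
    (IsPullback.of_hasPullback r₁ mX).paste_vert hmX
  exact ⟨_, q, _, r, inferInstance, inferInstance, inferInstance, inferInstance, inferInstance,
    MorphismProperty.of_isPullback hr hfl, MorphismProperty.of_isPullback hr hsu,
    MorphismProperty.of_isPullback hr hlfp, MorphismProperty.of_isPullback hr hqc₁,
    MorphismProperty.of_isPullback hr hqs₁⟩

end Groth.Agent.Flatten12
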