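import Groth.Agent.Lib.Flatten12.Algebra
import Groth.Agent.Lib.RefineDesc12.Cover

/-!
# Models on which the torsion-free part of a chart becomes flat
-/

set_option autoImplicit false
set_option linter.style.haveILetI false
set_option backward.isDefEq.respectTransparency false

universe u

open IsLocalRing CategoryTheory CategoryTheory.Limits AlgebraicGeometry
open scoped TensorProduct

namespace Groth.Agent.Flatten12

open RefineDesc12

variable {X Y : Scheme.{u}} {K : Type u} [Field K] {γ : Spec (CommRingCat.of K) ⟶ Y}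

/-- The evaluation of sections at the point of a model. -/
noncomputable def evalPt (M : Model γ) {U : M.P.Opens} {y : M.P} (hy : y ∈ U) :
    Γ(M.P, U) ⟶ CommRingCat.of K :=
  M.pt.appLE U ⊤ (fun p _ => range_subset_of_closedPoint_mem M.pt (pt_mem_of_nonempty M hy) ⟨p, rfl⟩) ≫
    (Scheme.ΓSpecIso (CommRingCat.of K)).hom

theorem evalPt_injective (M : Model γ) {U : M.P.Opens} {y : M.P} (hy : y ∈ U) :
    Function.Injective (evalPt M hy).hom := by
  rw [injective_iff_map_eq_zero]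
  intro b hb
  rw [← basicOpen_eq_bot_iff]
  by_contra hne
  have hne' : (M.P.basicOpen b : Set M.P).Nonempty := by
    rw [Set.nonempty_iff_ne_empty]
    intro h
    exact hne (TopologicalSpace.Opens.ext h)
  obtain ⟨z, hz⟩ := hne'
  have hp : closedPoint K ∈ M.pt ⁻¹ᵁ M.P.basicOpen b := pt_mem_of_nonempty M hz
  rw [Scheme.preimage_basicOpen] at hp
  have h0 : (M.pt.appLE U ⊤
      (fun p _ => range_subset_of_closedPoint_mem M.pt (pt_mem_of_nonempty M hy) ⟨p, rfl⟩)).hom b = 0 := by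
    apply (Scheme.ΓSpecIso (CommRingCat.of K)).commRingCatIsoToRingEquiv.injective
    rw [map_zero]
    exact hb
  have htop : M.pt ⁻¹ᵁ U = ⊤ := top_le_iff.1
    fun p _ => range_subset_of_closedPoint_mem M.pt (pt_mem_of_nonempty M hy) ⟨p, rfl⟩
  have hres := Scheme.basicOpen_res (X := Spec (CommRingCat.of K)) ((M.pt.app U).hom b)
    (homOfLE htop.ge).op
  have h1 : ((Spec (CommRingCat.of K)).presheaf.map (homOfLE htop.ge).op).hom ((M.pt.app U).hom b) = 0 := h0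
  erw [h1] at hres
  rw [Scheme.basicOpen_zero] at hres
  have hmem : closedPoint K ∈ (⊤ : (Spec (CommRingCat.of K)).Opens) ⊓
      (Spec (CommRingCat.of K)).basicOpen ((M.pt.app U).hom b) := ⟨trivial, hp⟩
  rw [← hres] at hmem
  exact hmem

theorem appLE_evalPt (M : Model γ) {U : M.P.Opens} {y : M.P} (hy : y ∈ U) {O : Y.Opens}
    (hO : U ≤ M.q ⁻¹ᵁ O) (hγ : ⊤ ≤ γ ⁻¹ᵁ O) :
    M.q.appLE O U hO ≫ evalPt M hy = γ.appLE O ⊤ hγ ≫ (Scheme.ΓSpecIso (CommRingCat.of K)).hom := by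
  rw [evalPt, Scheme.Hom.appLE_comp_appLE_assoc]
  simp only [M.fac]

theorem dom_evalPt {M' M : Model γ} (d : M'.Dom M) {U : M.P.Opens} {y : M'.P} (hy : d.m y ∈ U)
    {U' : M'.P.Opens} (hy' : y ∈ U') (hle : U' ≤ d.m ⁻¹ᵁ U) :
    d.m.appLE U U' hle ≫ evalPt M' hy' = evalPt M hy := by
  rw [evalPt, evalPt, Scheme.Hom.appLE_comp_appLE_assoc]
  simp only [d.fac_pt]

variable (f : X ⟶ Y) (Yj : Y.Opens) (W : X.Opens) (hWj : W ≤ f ⁻¹ᵁ Yj)

/-- Near `y` the torsion-free quotient of the chart is flat over the model. -/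
def GoodFlat (M : Model γ) (y : M.P) : Prop :=
  ∃ (U : M.P.Opens) (_ : IsAffineOpen U) (hyU : y ∈ U) (hUj : U ≤ M.q ⁻¹ᵁ Yj),
    letI := (f.appLE Yj W hWj).hom.toAlgebra
    FlatQuot Γ(X, W) (M.q.appLE Yj U hUj).hom (evalPt M hyU).hom

theorem goodFlat_of_dom {M' M : Model γ} (d : M'.Dom M) {y : M'.P}
    (h : GoodFlat f Yj W hWj M (d.m y)) : GoodFlat f Yj W hWj M' y := by
  obtain ⟨U, hU, hy, hUj, hfl⟩ := h
  obtain ⟨U', hU', hy', hle⟩ := exists_isAffineOpen_mem_and_subset (X := M'.P) (x := y)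
    (U := d.m ⁻¹ᵁ U) hy
  have hle' : U' ≤ d.m ⁻¹ᵁ U := hle
  have hUj' : U' ≤ M'.q ⁻¹ᵁ Yj := fun z hz => by
    show M'.q z ∈ Yj
    rw [← d.fac_q, Scheme.Hom.comp_apply]
    exact hUj (hle' hz)
  refine ⟨U', hU', hy', hUj', ?_⟩
  letI := (f.appLE Yj W hWj).hom.toAlgebra
  have he : M'.q.appLE Yj U' hUj' = M.q.appLE Yj U hUj ≫ d.m.appLE U U' hle' := by
    rw [Scheme.Hom.appLE_comp_appLE]
    simp only [d.fac_q]
  rw [he]
  exact hfl.map Γ(X, W) (d.m.appLE U U' hle').hom (evalPt M' hy').hom (evalPt_injective M' hy')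
    congr($(dom_evalPt d hy hy' hle').hom)

/-- Tuples whose regularity makes the torsion-free part of the chart flat, after refinement. -/
def UsableFlat (γ : Spec (CommRingCat.of K) ⟶ Y) {n : ℕ}
    (a : {j : Fin (n + 1) // j ≠ 0} → K) : Prop :=
  ∀ M : Model γ, ∃ (M' : Model γ) (_ : M'.Dom M), ∀ (y : M'.P) (V : ValuationSubring K),
    Centred M' V y → M'.q y ∈ Yj → (∀ k, a k ∈ V) → GoodFlat f Yj W hWj M' y

variable [IsLocallyNoetherian Y] [QuasiSeparatedSpace Y]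

theorem usable_of_valuation [LocallyOfFiniteType f] (hYj : IsAffineOpen Yj) (hW : IsAffineOpen W)
    (hγ : ⊤ ≤ γ ⁻¹ᵁ Yj) (V : ValuationSubring K)
    (hV : ∀ r, (γ.appLE Yj ⊤ hγ ≫ (Scheme.ΓSpecIso (CommRingCat.of K)).hom).hom r ∈ V) :
    ∃ (n : ℕ) (a : {j : Fin (n + 1) // j ≠ 0} → K), UsableFlat f Yj W hWj γ a ∧ ∀ k, a k ∈ V := by
  classical
  let ρ := (γ.appLE Yj ⊤ hγ ≫ (Scheme.ΓSpecIso (CommRingCat.of K)).hom).hom
  letI : Algebra Γ(Y, Yj) K := ρ.toAlgebra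
  letI : Algebra Γ(Y, Yj) V := (ρ.codRestrict V.toSubring hV).toAlgebra
  letI := (f.appLE Yj W hWj).hom.toAlgebra
  haveI : IsScalarTower Γ(Y, Yj) V K := IsScalarTower.of_algebraMap_eq fun _ => rfl
  haveI : IsNoetherianRing Γ(Y, Yj) := IsLocallyNoetherian.component_noetherian ⟨Yj, hYj⟩
  haveI : Algebra.FiniteType Γ(Y, Yj) Γ(X, W) :=
    HasRingHomProperty.appLE @LocallyOfFiniteType f inferInstance ⟨Yj, hYj⟩ ⟨W, hW⟩ hWj
  obtain ⟨C, _, _, φV, J, hC, hflat, htor, -⟩ := SubtrDesc12.exists_model Γ(Y, Yj) Γ(X, W) V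
  let φ : C →ₐ[Γ(Y, Yj)] K := (IsScalarTower.toAlgHom Γ(Y, Yj) V K).comp φV
  have hkill : ∀ x ∈ J, Algebra.TensorProduct.map φ (AlgHom.id Γ(Y, Yj) Γ(X, W)) x = 0 := by
    intro x hx
    obtain ⟨c, hc0, hcx⟩ := htor x hx
    rw [show Algebra.TensorProduct.map φ (AlgHom.id Γ(Y, Yj) Γ(X, W)) =
      (genMap Γ(Y, Yj) Γ(X, W) V K).comp (Algebra.TensorProduct.map φV (AlgHom.id _ _)) from by
        rw [genMap, ← Algebra.TensorProduct.map_comp]
        rfl, AlgHom.comp_apply]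
    have h1 := congrArg (genMap Γ(Y, Yj) Γ(X, W) V K) hcx
    rw [Algebra.smul_def, map_mul, map_zero] at h1
    refine (IsUnit.mul_right_eq_zero ?_).1 h1
    have h2 : genMap Γ(Y, Yj) Γ(X, W) V K (algebraMap V _ c) =
        algebraMap K (K ⊗[Γ(Y, Yj)] Γ(X, W)) (algebraMap V K c) := by
      simp [genMap, Algebra.TensorProduct.algebraMap_apply]
    rw [h2]
    exact ((IsUnit.mk0 _ fun h => hc0 (IsFractionRing.injective V K (by rw [h, map_zero])))).map _
  obtain ⟨s, hs⟩ := (inferInstance : Algebra.FiniteType Γ(Y, Yj) C).out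
  let e : {j : Fin (s.card + 1) // j ≠ 0} ≃ s :=
    (finSuccAboveEquiv (0 : Fin (s.card + 1))).symm.trans s.equivFin.symm
  refine ⟨s.card, fun k => φ (e k).1, ?_, fun k => (φV (e k).1).2⟩
  intro M
  obtain ⟨M', d, O, hO, hgen⟩ := exists_step (fun k => φ (e k).1) M
  refine ⟨M', d, fun y V' hy hyj ha => ?_⟩
  obtain ⟨U, hU, hyU, hUle⟩ := exists_isAffineOpen_mem_and_subset (X := M'.P) (x := y)
    (U := O ⊓ M'.q ⁻¹ᵁ Yj) ⟨hO V' y hy ha, hyj⟩
  have hUle' : U ≤ O ⊓ M'.q ⁻¹ᵁ Yj := hUle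
  have hUj : U ≤ M'.q ⁻¹ᵁ Yj := hUle'.trans inf_le_right
  refine ⟨U, hU, hyU, hUj, ?_⟩
  let η := evalPt M' hyU
  let w : Spec (CommRingCat.of K) ⟶ (U : Scheme.{u}) := IsOpenImmersion.lift U.ι M'.pt (by
    rw [Scheme.Opens.range_ι]
    exact range_subset_of_closedPoint_mem M'.pt (pt_mem_of_nonempty M' hyU))
  have hw : w ≫ U.ι = M'.pt := IsOpenImmersion.lift_fac _ _ _
  have hη : η = U.topIso.inv ≫ w.appTop ≫ (Scheme.ΓSpecIso (CommRingCat.of K)).hom := by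
    show evalPt M' hyU = _
    rw [evalPt, ← Category.assoc U.topIso.inv]
    congr 1
    have hUU : (⊤ : (U : Scheme.{u}).Opens) ≤ U.ι ⁻¹ᵁ U := fun z _ => z.2
    rw [show U.topIso.inv = U.ι.appLE U ⊤ hUU by simp; rfl,
      show w.appTop = w.appLE ⊤ ⊤ le_top from Scheme.Hom.app_eq_appLE w, Scheme.Hom.appLE_comp_appLE]
    simp only [hw]
  have hqη : (η.hom.comp (M'.q.appLE Yj U hUj).hom) = ρ := congr($(appLE_evalPt M' hyU hUj hγ).hom)
  have hrange : ∀ c, φ c ∈ η.hom.range := by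
    letI : Algebra Γ(Y, Yj) Γ(M'.P, U) := (M'.q.appLE Yj U hUj).hom.toAlgebra
    let ηA : Γ(M'.P, U) →ₐ[Γ(Y, Yj)] K := { η.hom with commutes' := fun r => congr($hqη r) }
    have hle : Algebra.adjoin Γ(Y, Yj) (s : Set C) ≤ (ηA.range).comap φ := by
      refine Algebra.adjoin_le_iff.2 fun g hg => ?_
      obtain ⟨b, hb⟩ := hgen U w (hUle'.trans inf_le_left) hw (e.symm ⟨g, hg⟩)
      refine ⟨U.topIso.hom b, ?_⟩
      show η.hom _ = φ g
      rw [hη]
      simp only [CommRingCat.hom_comp, RingHom.comp_apply]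
      rw [Iso.hom_inv_id_apply, hb]
      simp only [Equiv.apply_symm_apply]
      exact (Scheme.ΓSpecIso (CommRingCat.of K)).commRingCatIsoToRingEquiv.apply_symm_apply (φ g)
    rw [hs] at hle
    exact fun c => hle (Algebra.mem_top : c ∈ (⊤ : Subalgebra Γ(Y, Yj) C))
  let eη := RingEquiv.ofBijective η.hom.rangeRestrict
    ⟨fun a b h => evalPt_injective M' hyU (congrArg Subtype.val h), η.hom.rangeRestrict_surjective⟩
  let θ : C →+* Γ(M'.P, U) := eη.symm.toRingHom.comp (φ.toRingHom.codRestrict η.hom.range hrange)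
  have hθ : η.hom.comp θ = φ.toRingHom := RingHom.ext fun c =>
    congrArg Subtype.val (eη.apply_symm_apply ⟨φ c, hrange c⟩)
  refine flatQuot_of_model Γ(X, W) (M'.q.appLE Yj U hUj).hom η.hom (evalPt_injective M' hyU)
    hqη.symm C θ (RingHom.ext fun r => evalPt_injective M' hyU ?_) φ hθ.symm J hkill
  show (η.hom.comp θ) (algebraMap _ C r) = (η.hom.comp (M'.q.appLE Yj U hUj).hom) r
  rw [hθ, hqη]
  exact φ.commutes r

theorem exists_usable_finset [LocallyOfFiniteType f] (hYj : IsAffineOpen Yj) (hW : IsAffineOpen W) :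
    ∃ L : Finset (Σ n : ℕ, {a : {j : Fin (n + 1) // j ≠ 0} → K // UsableFlat f Yj W hWj γ a}),
      ∀ (M : Model γ) (y : M.P) (V : ValuationSubring K), Centred M V y → M.q y ∈ Yj →
        ∃ c ∈ L, ∀ k, c.2.1 k ∈ V := by
  by_cases hγc : γ (closedPoint K) ∈ Yj
  swap
  · refine ⟨∅, fun M y V _ hy => absurd ?_ hγc⟩
    have := pt_mem_of_nonempty M (O := M.q ⁻¹ᵁ Yj) hy
    rw [← M.fac, Scheme.Hom.comp_apply]
    exact this
  have hγ : ⊤ ≤ γ ⁻¹ᵁ Yj := fun p _ => range_subset_of_closedPoint_mem γ hγc ⟨p, rfl⟩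
  let ρ := γ.appLE Yj ⊤ hγ ≫ (Scheme.ΓSpecIso (CommRingCat.of K)).hom
  have hρ : Spec.map ρ ≫ hYj.fromSpec = γ := by
    rw [Spec.map_comp, Category.assoc, IsAffineOpen.SpecMap_appLE_fromSpec γ hYj (isAffineOpen_top _) hγ,
      IsAffineOpen.fromSpec_top]
    simp [Scheme.isoSpec_Spec_inv]
  obtain ⟨L, hL⟩ := exists_finset_valuation (Set.range ρ.hom)
    (fun c : (Σ n : ℕ, {a : {j : Fin (n + 1) // j ≠ 0} → K // UsableFlat f Yj W hWj γ a}) =>
      Set.range c.2.1)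
    (fun c => Set.finite_range _) (fun V hV => by
      obtain ⟨n, a, ha, haV⟩ := usable_of_valuation f Yj W hWj hYj hW hγ V fun r => hV ⟨r, rfl⟩
      exact ⟨⟨n, a, ha⟩, by rintro _ ⟨k, rfl⟩; exact haV k⟩)
  refine ⟨L, fun M y V hy hyj => ?_⟩
  obtain ⟨x, hx, rfl⟩ := hy
  let xj : Spec (CommRingCat.of V) ⟶ Spec Γ(Y, Yj) := IsOpenImmersion.lift hYj.fromSpec (x ≫ M.q) (by
    rw [hYj.range_fromSpec]
    exact range_subset_of_closedPoint_mem _ (by rw [Scheme.Hom.comp_apply]; exact hyj))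
  have hfac : Spec.preimage xj ≫ CommRingCat.ofHom (algebraMap V K) = ρ := by
    refine Spec.map_injective ?_
    rw [Spec.map_comp, Spec.map_preimage, ← cancel_mono hYj.fromSpec, Category.assoc,
      IsOpenImmersion.lift_fac, ← Category.assoc, hx, M.fac, hρ]
  obtain ⟨c, hc, hcV⟩ := hL V (by
    rintro _ ⟨r, rfl⟩
    rw [← hfac]
    exact ((Spec.preimage xj).hom r).2)
  exact ⟨c, hc, fun k => hcV ⟨k, rfl⟩⟩

omit f Yj W hWj in
/-- A model flattening finitely many charts simultaneously. -/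
theorem exists_model_flat (f : X ⟶ Y) [LocallyOfFiniteType f] {τ : Type u} [Finite τ]
    (Yj : τ → Y.Opens) (W : τ → X.Opens) (hWj : ∀ k, W k ≤ f ⁻¹ᵁ Yj k)
    (hYj : ∀ k, IsAffineOpen (Yj k)) (hW : ∀ k, IsAffineOpen (W k)) :
    ∃ M : Model γ, ∀ k y, M.q y ∈ Yj k → GoodFlat f (Yj k) (W k) (hWj k) M y := by
  classical
  choose L hL using fun k =>
    exists_usable_finset (γ := γ) f (Yj k) (W k) (hWj k) (hYj k) (hW k)
  let T := Σ k : τ, (L k)
  cases nonempty_fintype τ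
  have key : ∀ S : Finset T, ∃ M : Model γ, ∀ t ∈ S, ∀ (y : M.P) (V : ValuationSubring K),
      Centred M V y → M.q y ∈ Yj t.1 → (∀ k, t.2.1.2.1 k ∈ V) →
        GoodFlat f (Yj t.1) (W t.1) (hWj t.1) M y := by
    intro S
    induction S using Finset.induction with
    | empty =>
      obtain ⟨M, -⟩ := exists_initial_model (γ := γ)
      exact ⟨M, fun t ht => absurd ht (Finset.notMem_empty t)⟩
    | @insert t S _ ih =>
      obtain ⟨M, hM⟩ := ih
      obtain ⟨M', d, hd⟩ := t.2.1.2.2 M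
      refine ⟨M', fun t' ht' y V hy hyj hV => ?_⟩
      rcases Finset.mem_insert.1 ht' with rfl | ht'
      · exact hd y V hy hyj hV
      · refine goodFlat_of_dom f _ _ _ d (hM t' ht' (d.m y) V (centred_of_dom d hy) ?_ hV)
        rwa [← Scheme.Hom.comp_apply, d.fac_q]
  obtain ⟨M, hM⟩ := key Finset.univ
  refine ⟨M, fun k y hy => ?_⟩
  obtain ⟨V, hV⟩ := exists_centred M y
  obtain ⟨c, hc, hcV⟩ := hL k M y V hV hy
  exact hM ⟨k, ⟨c, hc⟩⟩ (Finset.mem_univ _) y V hV hy hcV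

end Groth.Agent.Flatten12
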